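import Cfsg.Agent.H633.Ore.Co2Cover

/-!
# `k(Co2) ≤ 60` (helper217)

The list of class representatives of helper633 with the information which of them are conjugate to their inverses.
-/

set_option autoImplicit false

namespace Cfsg.Agent.H217.S8.Co2K

open Cfsg Cfsg.Agent.H633.Ore Cfsg.Agent.H633.Ore.Co2

section Gen

variable {G : Type*} [Group G]

/-- the class of `r`, or its union with the class of the inverse -/
def EE (b : Bool) (r : G) : Set G := cond b {g | IsConj r g} (UU r)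

theorem sub_UU {b : Bool} {r g : G} (h : g ∈ EE b r) : g ∈ UU r := by
  cases b
  · exact h
  · exact Or.inl h

variable [Finite G]

theorem cover_gen {κ : Type*} (f : G → κ) (hf : ∀ c g, f (c * g * c⁻¹) = f g) (hf' : ∀ g, f g⁻¹ = f g)
    (l : List (Bool × Ent G κ)) (hk : ∀ p ∈ l, f p.2.r = p.2.k) (hnd : (l.map fun p => p.2.k).Nodup)
    (hq : ∀ p ∈ l, p.2.q ≤ Nat.card (EE p.1 p.2.r)) (hs : Nat.card G ≤ (l.map fun p => p.2.q).sum) (g : G) :
    ∃ p ∈ l, g ∈ EE p.1 p.2.r := by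
  classical
  have := Fintype.ofFinite G
  have hU : ∀ (b : Bool) (r x : G), x ∈ EE b r → f x = f r := by
    intro b r x h
    rcases sub_UU h with h | h
    · obtain ⟨c, rfl⟩ := isConj_iff.1 h
      exact hf c r
    · obtain ⟨c, rfl⟩ := isConj_iff.1 h
      rw [hf, hf']
  by_contra hcon
  push Not at hcon
  have key : ∀ l : List (Bool × Ent G κ), (∀ p ∈ l, f p.2.r = p.2.k) → (l.map fun p => p.2.k).Nodup →
      (∀ p ∈ l, p.2.q ≤ Nat.card (EE p.1 p.2.r)) →
      (l.map fun p => p.2.q).sum ≤ (Finset.univ.filter fun y : G => ∃ p ∈ l, y ∈ EE p.1 p.2.r).card := by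
    intro l
    induction l with
    | nil => intro _ _ _; simp
    | cons a l ih =>
      intro hk hnd hq
      rw [List.map_cons, List.nodup_cons] at hnd
      have h1 := ih (fun p hp => hk p (List.mem_cons_of_mem _ hp)) hnd.2 (fun p hp => hq p (List.mem_cons_of_mem _ hp))
      have hdis : Disjoint (Finset.univ.filter fun y : G => y ∈ EE a.1 a.2.r)
          (Finset.univ.filter fun y : G => ∃ p ∈ l, y ∈ EE p.1 p.2.r) := by
        rw [Finset.disjoint_left]
        intro y hy hy'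
        rw [Finset.mem_filter] at hy hy'
        obtain ⟨p, hp, hpy⟩ := hy'.2
        refine hnd.1 (List.mem_map.2 ⟨p, hp, ?_⟩)
        rw [← hk p (List.mem_cons_of_mem _ hp), ← hk a List.mem_cons_self, ← hU _ _ _ hpy, ← hU _ _ _ hy.2]
      have hun : (Finset.univ.filter fun y : G => ∃ p ∈ a :: l, y ∈ EE p.1 p.2.r) =
          (Finset.univ.filter fun y : G => y ∈ EE a.1 a.2.r) ∪
            (Finset.univ.filter fun y : G => ∃ p ∈ l, y ∈ EE p.1 p.2.r) := by
        ext y
        simp only [Finset.mem_filter, Finset.mem_univ, true_and, Finset.mem_union, List.mem_cons, exists_eq_or_imp]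
      have hq' : a.2.q ≤ (Finset.univ.filter fun y : G => y ∈ EE a.1 a.2.r).card := by
        have h3 : Nat.card (EE a.1 a.2.r) = (Finset.univ.filter fun y : G => y ∈ EE a.1 a.2.r).card := by
          rw [Nat.card_eq_fintype_card, Fintype.card_subtype]
        rw [← h3]
        exact hq a List.mem_cons_self
      rw [List.map_cons, List.sum_cons, hun, Finset.card_union_of_disjoint hdis]
      exact Nat.add_le_add hq' h1
  have h1 := key l hk hnd hq
  have h2 : (Finset.univ.filter fun y : G => ∃ p ∈ l, y ∈ EE p.1 p.2.r) ⊂ Finset.univ := by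
    rw [Finset.ssubset_univ_iff]
    intro h
    have h3 := Finset.mem_univ g
    rw [← h, Finset.mem_filter] at h3
    obtain ⟨p, hp, hpg⟩ := h3.2
    exact hcon p hp hpg
  have h3 := Finset.card_lt_card h2
  rw [Finset.card_univ, ← Nat.card_eq_fintype_card] at h3
  omega

/-- the classes of an entry -/
def cl (b : Bool) (r : G) : List (ConjClasses G) := cond b [ConjClasses.mk r] [ConjClasses.mk r, ConjClasses.mk r⁻¹]

theorem card_classes_le {ι : Type*} (l : List ι) (b : ι → Bool) (r : ι → G) (h : ∀ g : G, ∃ p ∈ l, g ∈ EE (b p) (r p)) :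
    Nat.card (ConjClasses G) ≤ (l.map fun p => cond (b p) 1 2).sum := by
  classical
  have : Finite (ConjClasses G) := Quotient.finite _
  have := Fintype.ofFinite (ConjClasses G)
  have h1 : ∀ c : ConjClasses G, c ∈ l.flatMap fun p => cl (b p) (r p) := by
    intro c
    obtain ⟨g, rfl⟩ := ConjClasses.exists_rep c
    obtain ⟨p, hp, hg⟩ := h g
    rw [List.mem_flatMap]
    refine ⟨p, hp, ?_⟩
    unfold EE at hg
    unfold cl
    cases hb : b p <;> rw [hb] at hg
    · rcases hg with hg | hg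
      · exact List.mem_cons.2 (Or.inl (ConjClasses.mk_eq_mk_iff_isConj.2 hg.symm))
      · exact List.mem_cons.2 (Or.inr (List.mem_singleton.2 (ConjClasses.mk_eq_mk_iff_isConj.2 hg.symm)))
    · have hg' : IsConj (r p) g := hg
      exact List.mem_singleton.2 (ConjClasses.mk_eq_mk_iff_isConj.2 hg'.symm)
  have h2 : (l.flatMap fun p => cl (b p) (r p)).length = (l.map fun p => cond (b p) 1 2).sum := by
    rw [List.length_flatMap]
    congr 1
    refine List.map_congr_left fun p _ => ?_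
    unfold cl
    cases b p <;> rfl
  rw [← h2, Nat.card_eq_fintype_card, ← Finset.card_univ]
  exact (Finset.card_le_card fun c _ => List.mem_toFinset.2 (h1 c)).trans (List.toFinset_card_le _)

end Gen

/-- a good entry -/
def GG2 (b : Bool) (w : List ℕ) (q : ℕ) (k : ℕ × ℕ × ℕ × ℕ × ℕ) : Prop := ff (wd w) = k ∧ q ≤ Nat.card (EE b (wd w))

theorem cpx {w : List ℕ} {q : ℕ} {k : ℕ × ℕ × ℕ × ℕ × ℕ} (h : GE w q k) : GG2 false w q k := h

theorem real {w : List ℕ} {N : ℕ} {s : List Step} {q t : ℕ} {k : ℕ × ℕ × ℕ × ℕ × ℕ} (h : GE w q k)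
    (hW : chkW w N s = true) (ht : prodB s = t) (hq : Nat.beq (q * t) 42305421312000 = true) : GG2 true w q k := by
  refine ⟨h.1, ?_⟩
  have h1 := Cfsg.Agent.H235.Ore.ClassList.card_class (wd w)
  have h2 : Nat.card ↥(Subgroup.centralizer ({wd w} : Set Spor.Co2)) ≤ t := by
    rw [← ht]
    refine chkW_sound hW _ fun x hx => ?_
    exact (Subgroup.mem_centralizer_iff.1 hx _ rfl).symm
  have h3 : 0 < t := lt_of_lt_of_le Nat.card_pos h2
  rw [card_co2, ← Nat.eq_of_beq_eq_true hq] at h1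
  have h4 : q * t ≤ Nat.card {y : Spor.Co2 // IsConj (wd w) y} * t := by
    rw [← h1]
    exact Nat.mul_le_mul_left _ h2
  exact Nat.le_of_mul_le_mul_right h4 h3

theorem one : GG2 true [] 1 (2300, 2300, 2300, 2300, 2300) := by
  refine ⟨ge_one.1, ?_⟩
  have : Nonempty (EE true (wd [])) := ⟨⟨wd [], IsConj.refl _⟩⟩
  exact Nat.card_pos

theorem h1 : GG2 true C0.w1 56925 (2300, 284, 284, 2300, 284) := real g1 C0.k1 C0.b1 (by decide +kernel)

theorem h2 : GG2 true C0.w2 28690200 (2300, 52, 52, 2300, 52) := real g2 C0.k2 C0.b2 (by decide +kernel)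

theorem h3 : GG2 true C0.w3 1024650 (2300, 140, 140, 2300, 140) := real g3 C0.k3 C0.b3 (by decide +kernel)

theorem h4 : GG2 true C0.w4 90675200 (5, 5, 2300, 5, 2300) := real g4 C0.k4 C0.b4 (by decide +kernel)

theorem h5 : GG2 true C0.w5 272025600 (41, 41, 2300, 41, 2300) := real g5 C0.k5 C0.b5 (by decide +kernel)

theorem h6 : GG2 true C1.w6 344282400 (2300, 40, 40, 140, 40) := real g6 C1.k6 C1.b6 (by decide +kernel)

theorem h7 : GG2 true C1.w7 860706000 (2300, 4, 4, 284, 4) := real g7 C1.k7 C1.b7 (by decide +kernel)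

theorem h8 : GG2 true C1.w8 33051110400 (2300, 0, 0, 52, 0) := real g8 C1.k8 C1.b8 (by decide +kernel)

theorem h9 : GG2 true C1.w9 6885648000 (2300, 12, 12, 140, 12) := real g9 C1.k9 C1.b9 (by decide +kernel)

theorem h10 : GG2 true C1.w10 6885648000 (2300, 16, 16, 140, 16) := real g10 C1.k10 C1.b10 (by decide +kernel)

theorem h11 : GG2 true C2.w11 573804000 (2300, 32, 32, 140, 32) := real g11 C2.k11 C2.b11 (by decide +kernel)

theorem h12 : GG2 true C2.w12 13662000 (2300, 28, 28, 284, 28) := real g12 C2.k12 C2.b12 (by decide +kernel)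

theorem h13 : GG2 true C2.w13 14101807104 (0, 0, 0, 2300, 2300) := real g13 C2.k13 C2.b13 (by decide +kernel)

theorem h14 : GG2 true C2.w14 70509035520 (10, 10, 10, 2300, 2300) := real g14 C2.k14 C2.b14 (by decide +kernel)

theorem h15 : GG2 true C2.w15 12241152000 (41, 17, 284, 41, 284) := real g15 C2.k15 C2.b15 (by decide +kernel)

theorem h16 : GG2 true C3.w16 146893824000 (41, 7, 52, 41, 52) := real g16 C3.k16 C3.b16 (by decide +kernel)

theorem h17 : GG2 true C3.w17 8160768000 (5, 5, 284, 5, 284) := real g17 C3.k17 C3.b17 (by decide +kernel)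

theorem h18 : GG2 true C3.w18 73446912000 (41, 5, 140, 41, 140) := real g18 C3.k18 C3.b18 (by decide +kernel)

theorem h19 : GG2 true C3.w19 9792921600 (41, 11, 284, 41, 284) := real g19 C3.k19 C3.b19 (by decide +kernel)

theorem h20 : GG2 true C3.w20 7344691200 (5, 5, 140, 5, 140) := real g20 C3.k20 C3.b20 (by decide +kernel)

theorem h21 : GG2 true C4.w21 755453952000 (4, 2300, 4, 4, 4) := real g21 C4.k21 C4.b21 (by decide +kernel)

theorem h22 : GG2 true C4.w22 55085184000 (140, 10, 10, 32, 10) := real g22 C4.k22 C4.b22 (by decide +kernel)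

theorem h23 : GG2 true C4.w23 82627776000 (284, 0, 0, 4, 0) := real g23 C4.k23 C4.b23 (by decide +kernel)

theorem h24 : GG2 true C4.w24 55085184000 (284, 4, 4, 28, 4) := real g24 C4.k24 C4.b24 (by decide +kernel)

theorem h25 : GG2 true C4.w25 661022208000 (140, 2, 2, 16, 2) := real g25 C4.k25 C4.b25 (by decide +kernel)

theorem h26 : GG2 true C5.w26 165255552000 (140, 6, 6, 32, 6) := real g26 C5.k26 C5.b26 (by decide +kernel)

theorem h27 : GG2 true C5.w27 82627776000 (284, 4, 4, 4, 4) := real g27 C5.k27 C5.b27 (by decide +kernel)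

theorem h28 : GG2 true C5.w28 783433728000 (2, 2, 2300, 2, 5) := real g28 C5.k28 C5.b28 (by decide +kernel)

theorem h29 : GG2 true C5.w29 1057635532800 (10, 2, 2, 2300, 52) := real g29 C5.k29 C5.b29 (by decide +kernel)

theorem h30 : GG2 true C5.w30 705090355200 (10, 4, 4, 2300, 284) := real g30 C5.k30 C5.b30 (by decide +kernel)

theorem h31 : GG2 true C6.w31 352545177600 (0, 0, 0, 2300, 140) := real g31 C6.k31 C6.b31 (by decide +kernel)

theorem h32 : GG2 true C6.w32 3845947392000 (1, 1, 1, 1, 1) := real g32 C6.k32 C6.b32 (by decide +kernel)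

theorem h33 : GG2 true C6.w33 146893824000 (41, 5, 32, 5, 32) := real g33 C6.k33 C6.b33 (by decide +kernel)

theorem h34 : GG2 true C6.w34 48964608000 (5, 1, 28, 5, 28) := real g34 C6.k34 C6.b34 (by decide +kernel)

theorem h35 : GG2 true C6.w35 881362944000 (41, 3, 12, 5, 12) := real g35 C6.k35 C6.b35 (by decide +kernel)

theorem h36 : GG2 true C7.w36 881362944000 (5, 1, 16, 5, 16) := real g36 C7.k36 C7.b36 (by decide +kernel)

theorem h37 : GG2 true C7.w37 146893824000 (5, 5, 32, 5, 32) := real g37 C7.k37 C7.b37 (by decide +kernel)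

theorem h38 : GG2 true C7.w38 146893824000 (41, 1, 28, 17, 28) := real g38 C7.k38 C7.b38 (by decide +kernel)

theorem h39 : GG2 true C7.w39 440681472000 (41, 1, 40, 5, 40) := real g39 C7.k39 C7.b39 (by decide +kernel)

theorem h40 : GG2 true C7.w40 440681472000 (5, 1, 4, 5, 4) := real g40 C7.k40 C7.b40 (by decide +kernel)

theorem h41 : GG2 true C8.w41 755453952000 (4, 284, 4, 4, 4) := real g41 C8.k41 C8.b41 (by decide +kernel)

theorem h42 : GG2 false C8.w42 3021815808000 (4, 140, 0, 4, 0) := cpx g42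

theorem h43 : GG2 true C8.w43 1410180710400 (1, 1, 10, 41, 2300) := real g43 C8.k43 C8.b43 (by decide +kernel)

theorem h44 : GG2 false C8.w44 2820361420800 (0, 0, 0, 5, 2300) := cpx g44

theorem h45 : GG2 true C8.w45 1322044416000 (4, 2, 2, 4, 2) := real g45 C8.k45 C8.b45 (by decide +kernel)

theorem h46 : GG2 true C9.w46 1322044416000 (4, 0, 0, 0, 0) := real g46 C9.k46 C9.b46 (by decide +kernel)

theorem h47 : GG2 true C9.w47 2350301184000 (2, 2, 284, 2, 5) := real g47 C9.k47 C9.b47 (by decide +kernel)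

theorem h48 : GG2 true C9.w48 2115271065600 (10, 0, 0, 52, 0) := real g48 C9.k48 C9.b48 (by decide +kernel)

theorem h49 : GG2 true C9.w49 2115271065600 (0, 0, 0, 140, 40) := real g49 C9.k49 C9.b49 (by decide +kernel)

theorem h50 : GG2 false C9.w50 3678732288000 (0, 0, 0, 0, 0) := cpx g50

theorem h51 : GG2 true C10.w51 1762725888000 (17, 1, 4, 1, 4) := real g51 C10.k51 C10.b51 (by decide +kernel)

theorem h52 : GG2 true C10.w52 1762725888000 (5, 1, 10, 5, 10) := real g52 C10.k52 C10.b52 (by decide +kernel)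

theorem h53 : GG2 true C10.w53 1510907904000 (4, 28, 0, 4, 0) := real g53 C10.k53 C10.b53 (by decide +kernel)

theorem h54 : GG2 true C10.w54 1410180710400 (1, 1, 4, 41, 284) := real g54 C10.k54 C10.b54 (by decide +kernel)

theorem h55 : GG2 false C10.w55 2820361420800 (0, 0, 0, 5, 140) := cpx g55

/-- the data -/
def data2 : List (Bool × Dt) := [
  (true, ⟨[], 1, (2300, 2300, 2300, 2300, 2300)⟩),
  (true, ⟨C0.w1, 56925, (2300, 284, 284, 2300, 284)⟩),
  (true, ⟨C0.w2, 28690200, (2300, 52, 52, 2300, 52)⟩),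
  (true, ⟨C0.w3, 1024650, (2300, 140, 140, 2300, 140)⟩),
  (true, ⟨C0.w4, 90675200, (5, 5, 2300, 5, 2300)⟩),
  (true, ⟨C0.w5, 272025600, (41, 41, 2300, 41, 2300)⟩),
  (true, ⟨C1.w6, 344282400, (2300, 40, 40, 140, 40)⟩),
  (true, ⟨C1.w7, 860706000, (2300, 4, 4, 284, 4)⟩),
  (true, ⟨C1.w8, 33051110400, (2300, 0, 0, 52, 0)⟩),
  (true, ⟨C1.w9, 6885648000, (2300, 12, 12, 140, 12)⟩),
  (true, ⟨C1.w10, 6885648000, (2300, 16, 16, 140, 16)⟩),
  (true, ⟨C2.w11, 573804000, (2300, 32, 32, 140, 32)⟩),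
  (true, ⟨C2.w12, 13662000, (2300, 28, 28, 284, 28)⟩),
  (true, ⟨C2.w13, 14101807104, (0, 0, 0, 2300, 2300)⟩),
  (true, ⟨C2.w14, 70509035520, (10, 10, 10, 2300, 2300)⟩),
  (true, ⟨C2.w15, 12241152000, (41, 17, 284, 41, 284)⟩),
  (true, ⟨C3.w16, 146893824000, (41, 7, 52, 41, 52)⟩),
  (true, ⟨C3.w17, 8160768000, (5, 5, 284, 5, 284)⟩),
  (true, ⟨C3.w18, 73446912000, (41, 5, 140, 41, 140)⟩),
  (true, ⟨C3.w19, 9792921600, (41, 11, 284, 41, 284)⟩),
  (true, ⟨C3.w20, 7344691200, (5, 5, 140, 5, 140)⟩),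
  (true, ⟨C4.w21, 755453952000, (4, 2300, 4, 4, 4)⟩),
  (true, ⟨C4.w22, 55085184000, (140, 10, 10, 32, 10)⟩),
  (true, ⟨C4.w23, 82627776000, (284, 0, 0, 4, 0)⟩),
  (true, ⟨C4.w24, 55085184000, (284, 4, 4, 28, 4)⟩),
  (true, ⟨C4.w25, 661022208000, (140, 2, 2, 16, 2)⟩),
  (true, ⟨C5.w26, 165255552000, (140, 6, 6, 32, 6)⟩),
  (true, ⟨C5.w27, 82627776000, (284, 4, 4, 4, 4)⟩),
  (true, ⟨C5.w28, 783433728000, (2, 2, 2300, 2, 5)⟩),
  (true, ⟨C5.w29, 1057635532800, (10, 2, 2, 2300, 52)⟩),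
  (true, ⟨C5.w30, 705090355200, (10, 4, 4, 2300, 284)⟩),
  (true, ⟨C6.w31, 352545177600, (0, 0, 0, 2300, 140)⟩),
  (true, ⟨C6.w32, 3845947392000, (1, 1, 1, 1, 1)⟩),
  (true, ⟨C6.w33, 146893824000, (41, 5, 32, 5, 32)⟩),
  (true, ⟨C6.w34, 48964608000, (5, 1, 28, 5, 28)⟩),
  (true, ⟨C6.w35, 881362944000, (41, 3, 12, 5, 12)⟩),
  (true, ⟨C7.w36, 881362944000, (5, 1, 16, 5, 16)⟩),
  (true, ⟨C7.w37, 146893824000, (5, 5, 32, 5, 32)⟩),
  (true, ⟨C7.w38, 146893824000, (41, 1, 28, 17, 28)⟩),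
  (true, ⟨C7.w39, 440681472000, (41, 1, 40, 5, 40)⟩),
  (true, ⟨C7.w40, 440681472000, (5, 1, 4, 5, 4)⟩),
  (true, ⟨C8.w41, 755453952000, (4, 284, 4, 4, 4)⟩),
  (false, ⟨C8.w42, 3021815808000, (4, 140, 0, 4, 0)⟩),
  (true, ⟨C8.w43, 1410180710400, (1, 1, 10, 41, 2300)⟩),
  (false, ⟨C8.w44, 2820361420800, (0, 0, 0, 5, 2300)⟩),
  (true, ⟨C8.w45, 1322044416000, (4, 2, 2, 4, 2)⟩),
  (true, ⟨C9.w46, 1322044416000, (4, 0, 0, 0, 0)⟩),
  (true, ⟨C9.w47, 2350301184000, (2, 2, 284, 2, 5)⟩),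
  (true, ⟨C9.w48, 2115271065600, (10, 0, 0, 52, 0)⟩),
  (true, ⟨C9.w49, 2115271065600, (0, 0, 0, 140, 40)⟩),
  (false, ⟨C9.w50, 3678732288000, (0, 0, 0, 0, 0)⟩),
  (true, ⟨C10.w51, 1762725888000, (17, 1, 4, 1, 4)⟩),
  (true, ⟨C10.w52, 1762725888000, (5, 1, 10, 5, 10)⟩),
  (true, ⟨C10.w53, 1510907904000, (4, 28, 0, 4, 0)⟩),
  (true, ⟨C10.w54, 1410180710400, (1, 1, 4, 41, 284)⟩),
  (false, ⟨C10.w55, 2820361420800, (0, 0, 0, 5, 140)⟩)]

theorem data2_good : ∀ d ∈ data2, GG2 d.1 d.2.w d.2.q d.2.k := by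
  unfold data2
  simp only [List.forall_mem_cons]
  exact ⟨one, h1, h2, h3, h4, h5, h6, h7, h8, h9, h10, h11, h12, h13, h14, h15, h16, h17, h18, h19, h20, h21, h22, h23, h24, h25, h26, h27, h28, h29, h30, h31, h32, h33, h34, h35, h36, h37, h38, h39, h40, h41, h42, h43, h44, h45, h46, h47, h48, h49, h50, h51, h52, h53, h54, h55, by simp⟩

theorem data2_nodup : (data2.map fun d => d.2.k).Nodup := by decide +kernel

theorem data2_sum : 42305421312000 ≤ (data2.map fun d => d.2.q).sum := by decide +kernel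

theorem data2_num : (data2.map fun d => cond d.1 1 2).sum = 60 := by decide +kernel

theorem cover2 (g : Spor.Co2) : ∃ d ∈ data2, g ∈ EE d.1 (wd d.2.w) := by
  obtain ⟨p, hp, hpg⟩ := cover_gen ff ff_conj ff_inv
    (data2.map fun d => (d.1, (⟨wd d.2.w, d.2.q, d.2.k⟩ : Ent Spor.Co2 (ℕ × ℕ × ℕ × ℕ × ℕ))))
    (by
      intro p hp
      obtain ⟨d, hd, rfl⟩ := List.mem_map.1 hp
      exact (data2_good d hd).1)
    (by rw [List.map_map]; exact data2_nodup)
    (by
      intro p hp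
      obtain ⟨d, hd, rfl⟩ := List.mem_map.1 hp
      exact (data2_good d hd).2)
    (by rw [List.map_map, card_co2]; exact data2_sum) g
  obtain ⟨d, hd, rfl⟩ := List.mem_map.1 hp
  exact ⟨d, hd, hpg⟩

/-- **`k(Co2) ≤ 60`.** -/
theorem card_classes : Nat.card (ConjClasses Spor.Co2) ≤ 60 := by
  rw [← data2_num]
  exact card_classes_le data2 (fun d => d.1) (fun d => wd d.2.w) cover2

end Cfsg.Agent.H217.S8.Co2K
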