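import Cfsg.Agent.H217.S8.Co2R
import Cfsg.Agent.H320.SD.ChiefOf
import Cfsg.Agent.H92.KTools

/-!
# The row `Chief` of `Co2` for S4908 (helper217)

`k(Co2) ≤ 60`, and `|A : C_A(z)| ≥ 61` for all `z ≠ 1` in `Co2` and all fixed point free actions on elementary abelian
groups `A`: if `A` is not a 3-group, the extraspecial group `3 ^ (1 + 4)` gives `|A : C_A(3A)| ≥ 4 ^ 9`; if `A` is a
3-group, `2 ^ (1 + 8)` gives `|A : C_A(2A)| ≥ 3 ^ 16`; all elements of prime order have products of at most three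
conjugates with powers in these classes.
-/

set_option autoImplicit false
set_option linter.unusedSectionVars false

namespace Cfsg.Agent.H217.S8.Co2M

open Cfsg Cfsg.Agent.H633.Ore Cfsg.Agent.H633.Ore.Co2 Cfsg.Agent.H217.S8.Co2K Cfsg.Agent.H217.S8.Co2R
  Cfsg.Agent.H320.SD
open Cfsg.Agent.H843.IMC.Co2B (Y)

universe u v

section Gen

variable {X : Type v} [Group X] {A : Type u} [AddCommGroup A] [DistribMulAction X A]

theorem inv_inf {N : AddSubgroup A} {g w : X} (hN : ∀ x ∈ N, g • x ∈ N) (h : g * w = w * g) :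
    ∀ x ∈ N ⊓ fx A w, g • x ∈ N ⊓ fx A w := by
  rintro x ⟨h1, h2⟩
  refine ⟨hN x h1, ?_⟩
  show w • g • x = g • x
  rw [← mul_smul, ← h, mul_smul, mem_fx.1 h2]

theorem kill {m r : ℕ} (h : Nat.Coprime m r) {x : A} (h1 : m • x = 0) (h2 : r • x = 0) : x = 0 := by
  have h3 := addOrderOf_dvd_of_nsmul_eq_zero h1
  have h4 := addOrderOf_dvd_of_nsmul_eq_zero h2
  have h5 := Nat.dvd_gcd h3 h4
  rw [h] at h5
  exact AddMonoid.addOrderOf_eq_one_iff.1 (Nat.dvd_one.1 h5)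

variable [Finite A]

theorem cm_ne (hs : IsSimpleGroup X) (hfix : ∀ x : A, (∀ g : X, g • x = x) → x = 0) (hnt : Nontrivial A) {z : X}
    (hz : z ≠ 1) : cm A z ≠ ⊥ := by
  intro h
  have h1 : ∀ x : A, z • x = x := by
    intro x
    have h2 : x - z • x ∈ cm A z := mem_cm.2 ⟨x, rfl⟩
    rw [h, AddSubgroup.mem_bot, sub_eq_zero] at h2
    exact h2.symm
  have h3 : z ∈ (MulAction.toPermHom X A).ker := by
    rw [MonoidHom.mem_ker]
    exact Equiv.ext h1
  rcases hs.eq_bot_or_eq_top_of_normal (MulAction.toPermHom X A).ker inferInstance with h4 | h4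
  · rw [h4] at h3
    exact hz (Subgroup.mem_bot.1 h3)
  · have h5 : ∀ (g : X) (x : A), g • x = x := by
      intro g x
      have h6 : g ∈ (MulAction.toPermHom X A).ker := by rw [h4]; trivial
      rw [MonoidHom.mem_ker] at h6
      exact congrFun (congrArg DFunLike.coe h6) x
    obtain ⟨x, hx⟩ := exists_ne (0 : A)
    exact hx (hfix x fun g => h5 g x)

theorem index_pow (g : X) (n : ℕ) : (fx A (g ^ n)).index ≤ (fx A g).index := by
  apply AddSubgroup.index_antitone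
  intro x hx
  rw [mem_fx] at hx ⊢
  induction n with
  | zero => rw [pow_zero, one_smul]
  | succ n ih => rw [pow_succ, mul_smul, hx, ih]

theorem index_pos (g : X) : 1 ≤ (fx A g).index := Nat.pos_of_ne_zero AddSubgroup.FiniteIndex.index_ne_zero

theorem three_le (N : AddSubgroup A) (h2 : ∀ x ∈ N, x + x = 0 → x = 0) (hN : N ≠ ⊥) : 3 ≤ Nat.card N := by
  classical
  obtain ⟨a, ha⟩ := AddSubgroup.ne_bot_iff_exists_ne_zero.1 hN
  have h1 : a ≠ -a := by
    intro h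
    apply ha
    apply Subtype.ext
    apply h2 a a.2
    have h3 : (a : A) = -(a : A) := congrArg Subtype.val h
    rw [← sub_eq_zero, sub_neg_eq_add] at h3
    exact h3
  have h0 : -a ≠ 0 := neg_ne_zero.2 ha
  have : Fintype N := Fintype.ofFinite N
  rw [Nat.card_eq_fintype_card]
  have hS : ({0, a, -a} : Finset N).card = 3 := by
    rw [Finset.card_insert_of_notMem, Finset.card_insert_of_notMem, Finset.card_singleton]
    · rw [Finset.mem_singleton]
      exact h1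
    · rw [Finset.mem_insert, Finset.mem_singleton]
      rintro (h | h)
      · exact ha h.symm
      · exact h0 h.symm
  rw [← hS]
  exact Finset.card_le_univ _

theorem big {m : ℕ} (h : 216001 ≤ m ^ 3) : 61 ≤ m := by
  by_contra h1
  have h2 : m ≤ 60 := by omega
  have h3 : m ^ 3 ≤ 60 ^ 3 := Nat.pow_le_pow_left h2 3
  omega

end Gen

section Main

variable {A : Type u} [AddCommGroup A] [DistribMulAction Spor.Co2 A] [Finite A]

theorem idx_rep (g : Spor.Co2) : ∃ d ∈ data2, ff g = d.2.k ∧ (fx A g).index = (fx A (wd d.2.w)).index ∧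
    (d.2.w = [] → g = 1) := by
  obtain ⟨d, hd, hg⟩ := cover2 g
  refine ⟨d, hd, ?_⟩
  rcases sub_UU hg with hg | hg
  · obtain ⟨c, rfl⟩ := isConj_iff.1 hg
    refine ⟨by rw [ff_conj]; exact (data2_good d hd).1, index_conj _ _, fun h => ?_⟩
    rw [h, wd_nil, mul_one, mul_inv_cancel]
  · obtain ⟨c, rfl⟩ := isConj_iff.1 hg
    refine ⟨by rw [ff_conj, ff_inv]; exact (data2_good d hd).1, by rw [index_conj, index_inv], fun h => ?_⟩
    rw [h, wd_nil, inv_one, mul_one, mul_inv_cancel]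

theorem idx_of_ff {g g' : Spor.Co2} (h : ff g = ff g') : (fx A g).index = (fx A g').index := by
  obtain ⟨d, hd, h1, h2, -⟩ := idx_rep (A := A) g
  obtain ⟨d', hd', h3, h4, -⟩ := idx_rep (A := A) g'
  have h5 : d.2.k = d'.2.k := by rw [← h1, ← h3, h]
  have h6 : d = d' := List.inj_on_of_nodup_map data2_nodup hd hd' h5
  rw [h2, h4, h6]

theorem idx_cj (t : List ℕ) {z z' : List ℕ} (h : (fx A (wd z')).index = (fx A (wd z)).index) :
    (fx A (wd (cj t z'))).index = (fx A (wd z)).index := by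
  rw [wd_cj, index_conj, h]

theorem idx_rev (z : List ℕ) : (fx A (wd z.reverse)).index = (fx A (wd z)).index := by
  rw [wd_reverse, index_inv]

theorem bnd2 {z t z' : List ℕ} {e a b c d f : ℕ} (hc : chkF (rp (z ++ cj t z') e) a b c d f = true)
    (h' : (fx A (wd z')).index = (fx A (wd z)).index) {y : Spor.Co2} (hy : ff y = (a, b, c, d, f)) :
    (fx A y).index ≤ (fx A (wd z)).index ^ 3 := by
  have h1 := chkF_sound hc
  have h2 : (fx A y).index = (fx A (wd (rp (z ++ cj t z') e))).index := idx_of_ff (hy.trans h1.symm)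
  rw [h2, wd_rp, wd_append]
  refine (index_pow _ _).trans ((index_mul _ _).trans ?_)
  rw [idx_cj _ h']
  calc (fx A (wd z)).index * (fx A (wd z)).index = (fx A (wd z)).index ^ 2 := (sq _).symm
    _ ≤ (fx A (wd z)).index ^ 3 := Nat.pow_le_pow_right (index_pos _) (by norm_num)

theorem bnd3 {z t z' t2 z2 : List ℕ} {e a b c d f : ℕ}
    (hc : chkF (rp (z ++ (cj t z' ++ cj t2 z2)) e) a b c d f = true)
    (h' : (fx A (wd z')).index = (fx A (wd z)).index) (h2' : (fx A (wd z2)).index = (fx A (wd z)).index)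
    {y : Spor.Co2} (hy : ff y = (a, b, c, d, f)) : (fx A y).index ≤ (fx A (wd z)).index ^ 3 := by
  have h1 := chkF_sound hc
  have h2 : (fx A y).index = (fx A (wd (rp (z ++ (cj t z' ++ cj t2 z2)) e))).index := idx_of_ff (hy.trans h1.symm)
  rw [h2, wd_rp, wd_append, wd_append]
  refine (index_pow _ _).trans ((index_mul _ _).trans ?_)
  calc (fx A (wd z)).index * (fx A (wd (cj t z') * wd (cj t2 z2))).index
      ≤ (fx A (wd z)).index * ((fx A (wd (cj t z'))).index * (fx A (wd (cj t2 z2))).index) :=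
        Nat.mul_le_mul_left _ (index_mul _ _)
    _ = (fx A (wd z)).index ^ 3 := by rw [idx_cj _ h', idx_cj _ h2']; ring

/-- the words of prime order -/
def PW : List (List ℕ) := [C0.w1, C0.w2, C0.w3, C0.w4, C0.w5, C2.w13, C2.w14, C4.w21, C6.w32, C9.w50]

theorem self_le {m : ℕ} (h : 1 ≤ m) : m ≤ m ^ 3 := by
  calc m = m ^ 1 := (pow_one m).symm
    _ ≤ m ^ 3 := Nat.pow_le_pow_right h (by norm_num)

theorem all4 {w : List ℕ} (hw : w ∈ PW) : (fx A (wd C0.w4)).index ≤ (fx A (wd w)).index ^ 3 := by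
  have hk := chkF_sound f4
  unfold PW at hw
  simp only [List.mem_cons, List.not_mem_nil, or_false] at hw
  rcases hw with rfl | rfl | rfl | rfl | rfl | rfl | rfl | rfl | rfl | rfl
  · exact bnd3 p1_4 (idx_rev _) rfl hk
  · exact bnd2 p2_4 rfl hk
  · exact bnd3 p3_4 (idx_rev _) rfl hk
  · exact self_le (index_pos _)
  · exact bnd2 p5_4 rfl hk
  · exact bnd2 p13_4 (idx_rev _) hk
  · exact bnd2 p14_4 (idx_rev _) hk
  · exact bnd2 p21_4 rfl hk
  · exact bnd2 p32_4 rfl hk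
  · exact bnd2 p50_4 rfl hk

theorem all1 {w : List ℕ} (hw : w ∈ PW) : (fx A (wd C0.w1)).index ≤ (fx A (wd w)).index ^ 3 := by
  have hk := chkF_sound f1
  unfold PW at hw
  simp only [List.mem_cons, List.not_mem_nil, or_false] at hw
  rcases hw with rfl | rfl | rfl | rfl | rfl | rfl | rfl | rfl | rfl | rfl
  · exact self_le (index_pos _)
  · exact bnd2 p2_1 rfl hk
  · exact bnd3 p3_1 (idx_rev _) (idx_rev _) hk
  · exact bnd2 p4_1 rfl hk
  · exact bnd2 p5_1 rfl hk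
  · exact bnd2 p13_1 rfl hk
  · exact bnd2 p14_1 rfl hk
  · exact bnd2 p21_1 (idx_rev _) hk
  · exact bnd2 p32_1 rfl hk
  · exact bnd2 p50_1 rfl hk

/-! ### the two extraspecial groups -/

theorem r_com {a b : List ℕ} (h : eqW (a ++ b) (b ++ a) = true) : wd a * wd b = wd b * wd a := by
  have h1 := eqW_sound h
  rwa [wd_append, wd_append] at h1

theorem r_vu {v w z : List ℕ} (h : eqW (v ++ w) (w ++ (z ++ v)) = true) : wd v * wd w = wd w * (wd z * wd v) := by
  have h1 := eqW_sound h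
  rwa [wd_append, wd_append, wd_append] at h1

theorem r_3 {a : List ℕ} (h : eqW (a ++ (a ++ a)) [] = true) : wd a * wd a * wd a = 1 := by
  have h1 := eqW_sound h
  rw [wd_append, wd_append, wd_nil] at h1
  rw [mul_assoc, h1]

theorem r_2 {a : List ℕ} (h : eqW (a ++ a) [] = true) : wd a * wd a = 1 := by
  have h1 := eqW_sound h
  rwa [wd_append, wd_nil] at h1

theorem ne_of_ff {g : Spor.Co2} {a b c d e : ℕ} (h : ff g = (a, b, c, d, e)) (hb : b ≠ 2300) : g ≠ 1 := by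
  rintro rfl
  have h1 := ge_one.1
  rw [show wd [] = 1 from rfl, h] at h1
  simp only [Prod.mk.injEq] at h1
  exact hb h1.2.1

theorem base4 (hfix : ∀ x : A, (∀ g : Spor.Co2, g • x = x) → x = 0) (hnt : Nontrivial A)
    (h3 : ∀ x : A, x + x + x = 0 → x = 0) : 4 ^ 9 ≤ (fx A (wd C0.w4)).index := by
  have hs : IsSimpleGroup Spor.Co2 := Cfsg.Agent.Schreier.CoTwoStab.isSimpleGroup
  have z3 := r_3 a_z
  have hne : wd C0.w4 ≠ 1 := ne_of_ff (chkF_sound f4) (by norm_num)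
  have hN := cm_ne (A := A) hs hfix hnt hne
  have hz : ∀ x ∈ cm A (wd C0.w4), x + wd C0.w4 • x + wd C0.w4 • wd C0.w4 • x = 0 := fun x hx => cm3 z3 hx
  obtain ⟨n1, c1⟩ := step3 (u := wd au0) (v := wd av0) (cm A (wd C0.w4)) hz (fun x _ => h3 x)
    (fun x hx => smul_cm (r_com a_uz0) hx) (fun x hx => smul_cm (r_com a_vz0) hx) (r_3 a_o0) z3 (r_com a_uz0)
    (r_com a_vz0) (r_vu a_vu0) hN
  obtain ⟨n2, c2⟩ := step3 (u := wd au1) (v := wd av1) (cm A (wd C0.w4) ⊓ fx A (wd au0)) (fun x hx => hz x hx.1) (fun x _ => h3 x)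
    (inv_inf (fun x hx => smul_cm (r_com a_uz1) hx) (r_com a_uu10))
    (inv_inf (fun x hx => smul_cm (r_com a_vz1) hx) (r_com a_vu10)) (r_3 a_o1) z3 (r_com a_uz1)
    (r_com a_vz1) (r_vu a_vu1) n1
  have h4 := four_le (z := wd C0.w4) (cm A (wd C0.w4) ⊓ fx A (wd au0) ⊓ fx A (wd au1)) (fun x hx => hz x hx.1.1) (fun x _ => h3 x)
    (inv_inf (inv_inf (fun x hx => smul_cm rfl hx) (r_com a_uz0).symm) (r_com a_uz1).symm) z3 n2
  rw [index_fx]
  calc 4 ^ 9 = (4 ^ 3) ^ 3 := by norm_num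
    _ ≤ (_ ^ 3) ^ 3 := Nat.pow_le_pow_left (Nat.pow_le_pow_left h4 3) 3
    _ ≤ _ ^ 3 := Nat.pow_le_pow_left c2 3
    _ ≤ _ := c1

theorem base1 (hfix : ∀ x : A, (∀ g : Spor.Co2, g • x = x) → x = 0) (hnt : Nontrivial A)
    (h2 : ∀ x : A, x + x = 0 → x = 0) : 3 ^ 16 ≤ (fx A (wd C0.w1)).index := by
  have hs : IsSimpleGroup Spor.Co2 := Cfsg.Agent.Schreier.CoTwoStab.isSimpleGroup
  have z2 := r_2 b_z
  have hne : wd C0.w1 ≠ 1 := ne_of_ff (chkF_sound f1) (by norm_num)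
  have hN := cm_ne (A := A) hs hfix hnt hne
  have hz : ∀ x ∈ cm A (wd C0.w1), x + wd C0.w1 • x = 0 := fun x hx => cm2 z2 hx
  obtain ⟨n1, c1⟩ := step2 (u := wd bu0) (v := wd bv0) (cm A (wd C0.w1)) hz (fun x _ => h2 x)
    (fun x hx => smul_cm (r_com b_uz0) hx) (fun x hx => smul_cm (r_com b_vz0) hx) (r_2 b_o0) (r_com b_uz0)
    (r_com b_vz0) (r_vu b_vu0) z2 hN
  obtain ⟨n2, c2⟩ := step2 (u := wd bu1) (v := wd bv1) (cm A (wd C0.w1) ⊓ fx A (wd bu0)) (fun x hx => hz x hx.1) (fun x _ => h2 x)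
    (inv_inf (fun x hx => smul_cm (r_com b_uz1) hx) (r_com b_uu10))
    (inv_inf (fun x hx => smul_cm (r_com b_vz1) hx) (r_com b_vu10)) (r_2 b_o1) (r_com b_uz1)
    (r_com b_vz1) (r_vu b_vu1) z2 n1
  obtain ⟨n3, c3⟩ := step2 (u := wd bu2) (v := wd bv2) (cm A (wd C0.w1) ⊓ fx A (wd bu0) ⊓ fx A (wd bu1))
    (fun x hx => hz x hx.1.1) (fun x _ => h2 x)
    (inv_inf (inv_inf (fun x hx => smul_cm (r_com b_uz2) hx) (r_com b_uu20)) (r_com b_uu21))
    (inv_inf (inv_inf (fun x hx => smul_cm (r_com b_vz2) hx) (r_com b_vu20)) (r_com b_vu21)) (r_2 b_o2) (r_com b_uz2)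
    (r_com b_vz2) (r_vu b_vu2) z2 n2
  obtain ⟨n4, c4⟩ := step2 (u := wd bu3) (v := wd bv3)
    (cm A (wd C0.w1) ⊓ fx A (wd bu0) ⊓ fx A (wd bu1) ⊓ fx A (wd bu2)) (fun x hx => hz x hx.1.1.1) (fun x _ => h2 x)
    (inv_inf (inv_inf (inv_inf (fun x hx => smul_cm (r_com b_uz3) hx) (r_com b_uu30)) (r_com b_uu31)) (r_com b_uu32))
    (inv_inf (inv_inf (inv_inf (fun x hx => smul_cm (r_com b_vz3) hx) (r_com b_vu30)) (r_com b_vu31)) (r_com b_vu32))
    (r_2 b_o3) (r_com b_uz3) (r_com b_vz3) (r_vu b_vu3) z2 n3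
  have h4 := three_le _ (fun x _ => h2 x) n4
  rw [index_fx]
  calc 3 ^ 16 = (((3 ^ 2) ^ 2) ^ 2) ^ 2 := by norm_num
    _ ≤ (((_ ^ 2) ^ 2) ^ 2) ^ 2 :=
      Nat.pow_le_pow_left (Nat.pow_le_pow_left (Nat.pow_le_pow_left (Nat.pow_le_pow_left h4 2) 2) 2) 2
    _ ≤ ((_ ^ 2) ^ 2) ^ 2 := Nat.pow_le_pow_left (Nat.pow_le_pow_left (Nat.pow_le_pow_left c4 2) 2) 2
    _ ≤ (_ ^ 2) ^ 2 := Nat.pow_le_pow_left (Nat.pow_le_pow_left c3 2) 2
    _ ≤ _ ^ 2 := Nat.pow_le_pow_left c2 2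
    _ ≤ _ := c1

theorem prime_words {r : ℕ} (hr : r.Prime) (hexp : ∀ x : A, r • x = 0)
    (hfix : ∀ x : A, (∀ g : Spor.Co2, g • x = x) → x = 0) (hnt : Nontrivial A) {w : List ℕ} (hw : w ∈ PW) :
    61 ≤ (fx A (wd w)).index := by
  apply big
  by_cases h : r = 3
  · have h2 : ∀ x : A, x + x = 0 → x = 0 := by
      intro x hx
      refine kill (m := 2) (r := r) ?_ ?_ (hexp x)
      · rw [h]; norm_num
      · rw [two_smul]; exact hx
    have h1 := base1 hfix hnt h2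
    have h3 := all1 (A := A) hw
    have h4 : 216001 ≤ 3 ^ 16 := by norm_num
    exact h4.trans (h1.trans h3)
  · have h2 : ∀ x : A, x + x + x = 0 → x = 0 := by
      intro x hx
      refine kill (m := 3) (r := r) ?_ ?_ (hexp x)
      · rw [Nat.coprime_primes Nat.prime_three hr]
        exact fun h' => h h'.symm
      · rw [show 3 = 2 + 1 from rfl, add_smul, two_smul, one_smul]; exact hx
    have h1 := base4 hfix hnt h2
    have h3 := all4 (A := A) hw
    have h4 : 216001 ≤ 4 ^ 9 := by norm_num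
    exact h4.trans (h1.trans h3)

end Main

/-! ### elements of prime order -/

theorem FF_triv {g : Spor.Co2} {j : ℕ} (h : g ^ j = 1) : FF j g = 2300 := by
  unfold FF
  rw [h]
  have h4 : Nat.card {y : Y // (1 : Spor.Co2) • y = y} = Nat.card Y :=
    Nat.card_congr (Equiv.subtypeUnivEquiv fun y => one_smul _ y)
  rw [h4, H843.IMC.Co2B.card_Y]

theorem smul_pow_fix {g : Spor.Co2} {y : Y} (h : g • y = y) (n : ℕ) : g ^ n • y = y := by
  induction n with
  | zero => rw [pow_zero, one_smul]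
  | succ n ih => rw [pow_succ, mul_smul, h, ih]

theorem FF_gen {g : Spor.Co2} (j k : ℕ) (h : g ^ (j * k) = g) : FF j g = Nat.card {y : Y // g • y = y} := by
  unfold FF
  refine Nat.card_congr (Equiv.subtypeEquivRight fun y => ⟨fun h1 => ?_, fun h1 => smul_pow_fix h1 j⟩)
  have h2 := smul_pow_fix h1 k
  rwa [← pow_mul, h] at h2

theorem pick2 : ∀ d ∈ data2, d.2.k.1 = 2300 → d.2.k.2.2.2.1 = 2300 → d.2.w = [] ∨ d.2.w ∈ PW := by decide +kernel

theorem pick3 : ∀ d ∈ data2, d.2.k.2.2.1 = 2300 → d.2.k.2.2.2.2 = 2300 → d.2.w = [] ∨ d.2.w ∈ PW := by decide +kernel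

theorem pick5 : ∀ d ∈ data2, d.2.k.2.2.2.1 = 2300 → d.2.k.2.2.2.2 = 2300 → d.2.w = [] ∨ d.2.w ∈ PW := by
  decide +kernel

theorem pick7 : ∀ d ∈ data2, d.2.k.2.1 = 2300 → d.2.w = [] ∨ d.2.w ∈ PW := by decide +kernel

theorem pickE : ∀ d ∈ data2, d.2.k.1 = d.2.k.2.1 → d.2.k.2.1 = d.2.k.2.2.1 → d.2.k.2.2.1 = d.2.k.2.2.2.1 →
    d.2.k.2.2.2.1 = d.2.k.2.2.2.2 → d.2.w = [] ∨ d.2.w ∈ PW := by decide +kernel

theorem primes_dvd {p : ℕ} (hp : p.Prime) (h : p ∣ 42305421312000) :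
    p = 2 ∨ p = 3 ∨ p = 5 ∨ p = 7 ∨ p = 11 ∨ p = 23 := by
  have e : 42305421312000 = 2 ^ 18 * (3 ^ 6 * (5 ^ 3 * (7 * (11 * 23)))) := by norm_num
  rw [e] at h
  have q : ∀ {a n : ℕ}, a.Prime → p ∣ a ^ n → p = a := fun ha hd =>
    (Nat.prime_dvd_prime_iff_eq hp ha).1 (hp.dvd_of_dvd_pow hd)
  rcases (Nat.Prime.dvd_mul hp).1 h with h | h
  · exact Or.inl (q Nat.prime_two h)
  rcases (Nat.Prime.dvd_mul hp).1 h with h | h
  · exact Or.inr (Or.inl (q Nat.prime_three h))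
  rcases (Nat.Prime.dvd_mul hp).1 h with h | h
  · exact Or.inr (Or.inr (Or.inl (q Nat.prime_five h)))
  rcases (Nat.Prime.dvd_mul hp).1 h with h | h
  · exact Or.inr (Or.inr (Or.inr (Or.inl ((Nat.prime_dvd_prime_iff_eq hp (by norm_num)).1 h))))
  rcases (Nat.Prime.dvd_mul hp).1 h with h | h
  · exact Or.inr (Or.inr (Or.inr (Or.inr (Or.inl ((Nat.prime_dvd_prime_iff_eq hp (by norm_num)).1 h)))))
  · exact Or.inr (Or.inr (Or.inr (Or.inr (Or.inr ((Nat.prime_dvd_prime_iff_eq hp (by norm_num)).1 h)))))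

theorem pow_red {g : Spor.Co2} {p : ℕ} (h : g ^ p = 1) (n k : ℕ) (hn : n = p * k + 1) : g ^ n = g := by
  rw [hn, pow_succ, pow_mul, h, one_pow, one_mul]

/-- an element of prime order has the key of a word of prime order -/
theorem prime_key {g : Spor.Co2} {p : ℕ} (hp : p.Prime) (hg : g ^ p = 1) (hd : p ∣ 42305421312000)
    {d : Bool × Dt} (hmem : d ∈ data2) (hk : ff g = d.2.k) : d.2.w = [] ∨ d.2.w ∈ PW := by
  have e1 : FF 4 g = d.2.k.1 := congrArg Prod.fst hk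
  have e2 : FF 7 g = d.2.k.2.1 := congrArg (fun k => k.2.1) hk
  have e3 : FF 9 g = d.2.k.2.2.1 := congrArg (fun k => k.2.2.1) hk
  have e4 : FF 10 g = d.2.k.2.2.2.1 := congrArg (fun k => k.2.2.2.1) hk
  have e5 : FF 15 g = d.2.k.2.2.2.2 := congrArg (fun k => k.2.2.2.2) hk
  have tr : ∀ j k, j = p * k → FF j g = 2300 := by
    intro j k hj
    apply FF_triv
    rw [hj, pow_mul, hg, one_pow]
  rcases primes_dvd hp hd with rfl | rfl | rfl | rfl | rfl | rfl
  · exact pick2 d hmem (by rw [← e1]; exact tr 4 2 rfl) (by rw [← e4]; exact tr 10 5 rfl)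
  · exact pick3 d hmem (by rw [← e3]; exact tr 9 3 rfl) (by rw [← e5]; exact tr 15 5 rfl)
  · exact pick5 d hmem (by rw [← e4]; exact tr 10 2 rfl) (by rw [← e5]; exact tr 15 3 rfl)
  · exact pick7 d hmem (by rw [← e2]; exact tr 7 1 rfl)
  · have a1 := FF_gen 4 3 (pow_red hg 12 1 rfl)
    have a2 := FF_gen 7 8 (pow_red hg 56 5 rfl)
    have a3 := FF_gen 9 5 (pow_red hg 45 4 rfl)
    have a4 := FF_gen 10 10 (pow_red hg 100 9 rfl)
    have a5 := FF_gen 15 3 (pow_red hg 45 4 rfl)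
    refine pickE d hmem ?_ ?_ ?_ ?_
    · rw [← e1, ← e2, a1, a2]
    · rw [← e2, ← e3, a2, a3]
    · rw [← e3, ← e4, a3, a4]
    · rw [← e4, ← e5, a4, a5]
  · have a1 := FF_gen 4 6 (pow_red hg 24 1 rfl)
    have a2 := FF_gen 7 10 (pow_red hg 70 3 rfl)
    have a3 := FF_gen 9 18 (pow_red hg 162 7 rfl)
    have a4 := FF_gen 10 7 (pow_red hg 70 3 rfl)
    have a5 := FF_gen 15 20 (pow_red hg 300 13 rfl)
    refine pickE d hmem ?_ ?_ ?_ ?_
    · rw [← e1, ← e2, a1, a2]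
    · rw [← e2, ← e3, a2, a3]
    · rw [← e3, ← e4, a3, a4]
    · rw [← e4, ← e5, a4, a5]

/-- **Codimensions.** -/
theorem cod {A : Type u} [AddCommGroup A] [DistribMulAction Spor.Co2 A] [Finite A] {r : ℕ} (hr : r.Prime)
    (hexp : ∀ x : A, r • x = 0) (hfix : ∀ x : A, (∀ g : Spor.Co2, g • x = x) → x = 0) (hnt : Nontrivial A)
    {z : Spor.Co2} (hz : z ≠ 1) : 61 ≤ (fx A z).index := by
  obtain ⟨p, hp, hd⟩ := Nat.exists_prime_and_dvd (n := orderOf z) (fun h => hz (orderOf_eq_one_iff.1 h))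
  obtain ⟨m, hm⟩ := hd
  have hpos : 0 < orderOf z := orderOf_pos z
  have hm0 : 0 < m := Nat.pos_of_ne_zero (by rintro rfl; omega)
  have h1 : (z ^ m) ^ p = 1 := by rw [← pow_mul, mul_comm, ← hm, pow_orderOf_eq_one]
  have h2 : z ^ m ≠ 1 := by
    intro h
    have h3 := Nat.le_of_dvd hm0 (orderOf_dvd_of_pow_eq_one h)
    have h4 := hp.two_le
    nlinarith
  have hdvd : p ∣ 42305421312000 := by
    rw [← card_co2]
    exact (Dvd.intro m hm.symm).trans (orderOf_dvd_natCard z)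
  obtain ⟨d, hmem, hk, hidx, hne⟩ := idx_rep (A := A) (z ^ m)
  refine le_trans ?_ (index_pow z m)
  rw [hidx]
  rcases prime_key hp h1 hdvd hmem hk with h | h
  · exact absurd (hne h) h2
  · exact prime_words hr hexp hfix hnt h

/-- **The row `Chief` of `Co2`.** -/
theorem chief {X : Type v} [Group X] [Finite X] (hX : Spor.IsoCo2 X) (D : Set ℕ) :
    Cfsg.Agent.H704.S8.Chief.{u} 1 D X := by
  obtain ⟨e⟩ := hX
  have hcard : Nat.card X = 42305421312000 := by rw [Nat.card_congr e.toEquiv, card_co2]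
  refine chief_of_codim (K := 60) (q := 61) D le_rfl ?_ (by norm_num) (by rw [hcard]; norm_num) ?_
  · rw [Cfsg.Agent.H92.KTools.card_classes_congr e]
    exact card_classes
  · intro A _ _ _ r hr hexp hfix hnt z hz
    let _ : DistribMulAction Spor.Co2 A := DistribMulAction.compHom A e.symm.toMonoidHom
    have h1 : (fx A (e z)).index = (fx A z).index := by
      congr 1
      ext x
      rw [mem_fx, mem_fx]
      show e.symm (e z) • x = x ↔ _
      rw [e.symm_apply_apply]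
    rw [← h1]
    refine cod hr hexp (fun x hx => hfix x fun g => ?_) hnt fun h => hz ?_
    · have h2 := hx (e g)
      have h3 : e.symm (e g) • x = x := h2
      rwa [e.symm_apply_apply] at h3
    · exact e.injective (h.trans (map_one e).symm)

end Cfsg.Agent.H217.S8.Co2M
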