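import Cfsg.Agent.H217.S8.Co2K

/-!
# Relations between words in `Co2` (helper217)

* extraspecial subgroups of type `3 ^ (1 + 4)` and `2 ^ (1 + 8)`;
* products of two or three conjugates (of inverses) of elements of prime order having powers in the classes `3A`, `2A`.
-/

set_option autoImplicit false

namespace Cfsg.Agent.H217.S8.Co2R

open Cfsg Cfsg.Agent.H633.Ore Cfsg.Agent.H633.Ore.Co2

/-- the check that two words give the same element -/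
noncomputable def eqW (w w' : List ℕ) : Bool := wmF w ID22 fun L => wmF w' ID22 fun L' => decide (L = L')

theorem eqW_sound {w w' : List ℕ} (h : eqW w w' = true) : wd w = wd w' := by
  unfold eqW at h
  rw [wmF_eq, wmF_eq] at h
  have h1 := of_decide_eq_true h
  rw [ID22_eq] at h1
  have h2 := rp_wd w'
  rw [← h1] at h2
  exact eq_of_rp (rp_wd w) h2

theorem wd_append (a b : List ℕ) : wd (a ++ b) = wd a * wd b := by
  unfold wd
  rw [List.map_append, List.prod_append]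

theorem wd_nil : wd [] = 1 := rfl

theorem wd_reverse (a : List ℕ) : wd a.reverse = (wd a)⁻¹ := by
  induction a with
  | nil => simp [wd]
  | cons k a ih =>
    have h1 : wd (k :: a) = tt k * wd a := by unfold wd; rw [List.map_cons, List.prod_cons]
    have h2 : wd [k] = tt k := by unfold wd; simp
    rw [List.reverse_cons, wd_append, ih, h1, h2, mul_inv_rev]
    congr 1
    exact eq_inv_of_mul_eq_one_left (tt_sq k)

/-- the conjugate of a word -/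
def cj (t z : List ℕ) : List ℕ := t ++ (z ++ t.reverse)

theorem wd_cj (t z : List ℕ) : wd (cj t z) = wd t * wd z * (wd t)⁻¹ := by
  unfold cj
  rw [wd_append, wd_append, wd_reverse, mul_assoc]

/-- the power of a word -/
def rp (w : List ℕ) : ℕ → List ℕ
  | 0 => []
  | n + 1 => w ++ rp w n

theorem wd_rp (w : List ℕ) (n : ℕ) : wd (rp w n) = wd w ^ n := by
  induction n with
  | zero => rw [pow_zero]; rfl
  | succ n ih =>
    show wd (w ++ rp w n) = _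
    rw [wd_append, ih, pow_succ']

/-- word -/
def au0 : List ℕ :=
  [1, 2, 0, 2, 0, 2, 0, 2, 0, 1]

/-- word -/
def av0 : List ℕ :=
  [1, 0, 1, 0, 2, 0, 1, 0, 1, 0, 2, 0]

/-- word -/
def au1 : List ℕ :=
  [0, 1, 0, 1, 2, 0, 2, 1, 0, 2, 1, 0, 1, 2, 0, 1, 2, 0, 2, 1, 0, 1, 2, 1, 0, 1, 2, 0, 2, 1, 0, 2, 1, 0, 1, 2, 0, 1,
  2, 0, 2, 1, 0, 1, 2, 0]

/-- word -/
def av1 : List ℕ :=
  [1, 0, 2, 0, 2, 0, 1, 2, 0, 1, 0, 1, 0, 1, 0, 1, 2, 0, 1, 0, 1, 0, 2, 1, 0, 1, 0, 1, 0, 1, 0, 2, 0, 2, 0, 1, 0, 1,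
  0, 2, 0, 1, 0, 1, 0, 2, 0]

theorem a_z : eqW (C0.w4 ++ (C0.w4 ++ C0.w4)) ([]) = true := by decide +kernel

theorem a_o0 : eqW (au0 ++ (au0 ++ au0)) ([]) = true := by decide +kernel

theorem a_uz0 : eqW (au0 ++ C0.w4) (C0.w4 ++ au0) = true := by decide +kernel

theorem a_vz0 : eqW (av0 ++ C0.w4) (C0.w4 ++ av0) = true := by decide +kernel

theorem a_vu0 : eqW (av0 ++ au0) (au0 ++ (C0.w4 ++ av0)) = true := by decide +kernel

theorem a_o1 : eqW (au1 ++ (au1 ++ au1)) ([]) = true := by decide +kernel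

theorem a_uz1 : eqW (au1 ++ C0.w4) (C0.w4 ++ au1) = true := by decide +kernel

theorem a_vz1 : eqW (av1 ++ C0.w4) (C0.w4 ++ av1) = true := by decide +kernel

theorem a_vu1 : eqW (av1 ++ au1) (au1 ++ (C0.w4 ++ av1)) = true := by decide +kernel

theorem a_uu10 : eqW (au1 ++ au0) (au0 ++ au1) = true := by decide +kernel

theorem a_vu10 : eqW (av1 ++ au0) (au0 ++ av1) = true := by decide +kernel

/-- word -/
def bu0 : List ℕ :=
  [0, 2, 0, 2, 0, 2, 0, 2, 0, 2, 0]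

/-- word -/
def bv0 : List ℕ :=
  [0, 1, 2, 1, 0, 1, 0, 2, 1, 2, 1, 0, 1, 2, 1, 2, 0, 1, 0, 1, 0, 1, 0, 1, 0, 1, 2, 1, 0, 1, 2, 1, 0, 1, 0, 1, 0, 2,
  1, 0]

/-- word -/
def bu1 : List ℕ :=
  [0, 1, 2, 1, 0, 2, 0, 2, 1, 0, 1, 2, 0, 2, 0, 2, 1, 0, 1, 2, 1, 2, 1, 0]

/-- word -/
def bv1 : List ℕ :=
  [0, 1, 0, 1, 0, 1, 0, 2, 0, 1, 0, 2, 0, 1, 2, 1, 0, 2, 0, 1, 2, 0, 2, 0, 1, 0, 1, 0, 1, 0]

/-- word -/
def bu2 : List ℕ :=
  [0, 1, 0, 1, 0, 1, 0, 1, 0, 2, 0, 1, 2, 1, 0, 2, 0, 1, 2, 0, 1, 0, 1, 0, 1, 0]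

/-- word -/
def bv2 : List ℕ :=
  [2, 0, 1, 2, 1, 2, 1, 0, 1, 2, 1, 2, 1, 2, 0, 2, 0, 2, 0, 1, 2, 1, 2, 1, 0, 1, 2, 1, 2, 1, 2, 0, 2, 0]

/-- word -/
def bu3 : List ℕ :=
  [0, 1, 2, 1, 0, 1, 0, 1, 2, 1, 0, 1, 2, 0, 1, 2, 1, 0, 1, 2, 1, 0, 1, 2, 0, 1, 0, 1, 2, 1, 0]

/-- word -/
def bv3 : List ℕ :=
  [0, 2, 0, 2, 1, 2, 1, 2, 1, 0, 2, 0, 2, 0, 2, 0, 1, 2, 0, 2, 0, 2, 1, 0, 1, 2, 0, 2, 0, 2, 1, 2, 0, 2, 0, 2, 0, 1,
  2, 1, 2, 1, 2, 0, 2, 0]

theorem b_z : eqW (C0.w1 ++ C0.w1) ([]) = true := by decide +kernel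

theorem b_o0 : eqW (bu0 ++ bu0) ([]) = true := by decide +kernel

theorem b_uz0 : eqW (bu0 ++ C0.w1) (C0.w1 ++ bu0) = true := by decide +kernel

theorem b_vz0 : eqW (bv0 ++ C0.w1) (C0.w1 ++ bv0) = true := by decide +kernel

theorem b_vu0 : eqW (bv0 ++ bu0) (bu0 ++ (C0.w1 ++ bv0)) = true := by decide +kernel

theorem b_o1 : eqW (bu1 ++ bu1) ([]) = true := by decide +kernel

theorem b_uz1 : eqW (bu1 ++ C0.w1) (C0.w1 ++ bu1) = true := by decide +kernel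

theorem b_vz1 : eqW (bv1 ++ C0.w1) (C0.w1 ++ bv1) = true := by decide +kernel

theorem b_vu1 : eqW (bv1 ++ bu1) (bu1 ++ (C0.w1 ++ bv1)) = true := by decide +kernel

theorem b_uu10 : eqW (bu1 ++ bu0) (bu0 ++ bu1) = true := by decide +kernel

theorem b_vu10 : eqW (bv1 ++ bu0) (bu0 ++ bv1) = true := by decide +kernel

theorem b_o2 : eqW (bu2 ++ bu2) ([]) = true := by decide +kernel

theorem b_uz2 : eqW (bu2 ++ C0.w1) (C0.w1 ++ bu2) = true := by decide +kernel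

theorem b_vz2 : eqW (bv2 ++ C0.w1) (C0.w1 ++ bv2) = true := by decide +kernel

theorem b_vu2 : eqW (bv2 ++ bu2) (bu2 ++ (C0.w1 ++ bv2)) = true := by decide +kernel

theorem b_uu20 : eqW (bu2 ++ bu0) (bu0 ++ bu2) = true := by decide +kernel

theorem b_vu20 : eqW (bv2 ++ bu0) (bu0 ++ bv2) = true := by decide +kernel

theorem b_uu21 : eqW (bu2 ++ bu1) (bu1 ++ bu2) = true := by decide +kernel

theorem b_vu21 : eqW (bv2 ++ bu1) (bu1 ++ bv2) = true := by decide +kernel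

theorem b_o3 : eqW (bu3 ++ bu3) ([]) = true := by decide +kernel

theorem b_uz3 : eqW (bu3 ++ C0.w1) (C0.w1 ++ bu3) = true := by decide +kernel

theorem b_vz3 : eqW (bv3 ++ C0.w1) (C0.w1 ++ bv3) = true := by decide +kernel

theorem b_vu3 : eqW (bv3 ++ bu3) (bu3 ++ (C0.w1 ++ bv3)) = true := by decide +kernel

theorem b_uu30 : eqW (bu3 ++ bu0) (bu0 ++ bu3) = true := by decide +kernel

theorem b_vu30 : eqW (bv3 ++ bu0) (bu0 ++ bv3) = true := by decide +kernel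

theorem b_uu31 : eqW (bu3 ++ bu1) (bu1 ++ bu3) = true := by decide +kernel

theorem b_vu31 : eqW (bv3 ++ bu1) (bu1 ++ bv3) = true := by decide +kernel

theorem b_uu32 : eqW (bu3 ++ bu2) (bu2 ++ bu3) = true := by decide +kernel

theorem b_vu32 : eqW (bv3 ++ bu2) (bu2 ++ bv3) = true := by decide +kernel

theorem p1_4 : chkF (rp (C0.w1 ++ (cj [2, 1, 0] C0.w1.reverse ++ cj [1, 2, 0, 1, 2, 0] C0.w1)) 2) 5 5 2300 5 2300 = true := by decide +kernel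

theorem p2_4 : chkF (rp (C0.w2 ++ cj [2, 0, 1, 2, 0, 1, 2, 0, 2] C0.w2) 2) 5 5 2300 5 2300 = true := by decide +kernel

theorem p2_1 : chkF (rp (C0.w2 ++ cj [2, 0, 2, 1, 2, 0, 2] C0.w2) 2) 2300 284 284 2300 284 = true := by decide +kernel

theorem p3_4 : chkF (rp (C0.w3 ++ (cj [2, 1, 2, 0, 2, 0, 1, 2] C0.w3.reverse ++ cj [2, 1, 0, 2, 0, 2, 1, 2, 0] C0.w3)) 1) 5 5 2300 5 2300 = true := by decide +kernel

theorem p3_1 : chkF (rp (C0.w3 ++ (cj [0, 1, 2, 1, 0, 2, 1, 2] C0.w3.reverse ++ cj [1, 0, 2, 1, 0, 2, 1, 2, 1] C0.w3.reverse)) 2) 2300 284 284 2300 284 = true := by decide +kernel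

theorem p4_1 : chkF (rp (C0.w4 ++ cj [0, 1, 2, 1, 2, 1, 0] C0.w4) 2) 2300 284 284 2300 284 = true := by decide +kernel

theorem p5_4 : chkF (rp (C0.w5 ++ cj [1, 0, 2, 0, 1] C0.w5) 1) 5 5 2300 5 2300 = true := by decide +kernel

theorem p5_1 : chkF (rp (C0.w5 ++ cj [1, 0, 2, 1, 2, 1, 2, 0, 1] C0.w5) 2) 2300 284 284 2300 284 = true := by decide +kernel

theorem p13_4 : chkF (rp (C2.w13 ++ cj [0, 1, 0, 2, 0, 1, 2] (C2.w13.reverse)) 2) 5 5 2300 5 2300 = true := by decide +kernel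

theorem p13_1 : chkF (rp (C2.w13 ++ cj [0, 1, 0, 1, 0, 1, 0] C2.w13) 2) 2300 284 284 2300 284 = true := by decide +kernel

theorem p14_4 : chkF (rp (C2.w14 ++ cj [0, 1, 0, 2, 0] (C2.w14.reverse)) 2) 5 5 2300 5 2300 = true := by decide +kernel

theorem p14_1 : chkF (rp (C2.w14 ++ cj [0, 1, 2, 0, 2, 0, 2, 1, 0] C2.w14) 2) 2300 284 284 2300 284 = true := by decide +kernel

theorem p21_4 : chkF (rp (C4.w21 ++ cj [1, 0, 2, 0, 1] C4.w21) 2) 5 5 2300 5 2300 = true := by decide +kernel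

theorem p21_1 : chkF (rp (C4.w21 ++ cj [0, 1, 2, 0, 1] (C4.w21.reverse)) 4) 2300 284 284 2300 284 = true := by decide +kernel

theorem p32_4 : chkF (rp (C6.w32 ++ cj [0, 1, 2, 1, 0] C6.w32) 2) 5 5 2300 5 2300 = true := by decide +kernel

theorem p32_1 : chkF (rp (C6.w32 ++ cj [0, 2] C6.w32) 3) 2300 284 284 2300 284 = true := by decide +kernel

theorem p50_4 : chkF (rp (C9.w50 ++ cj [1] C9.w50) 3) 5 5 2300 5 2300 = true := by decide +kernel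

theorem p50_1 : chkF (rp (C9.w50 ++ cj [0, 1] C9.w50) 4) 2300 284 284 2300 284 = true := by decide +kernel

end Cfsg.Agent.H217.S8.Co2R
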