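import Cfsg.Agent.H713.HT.FiCx
import Cfsg.Agent.H256.Sep.FiData
import Cfsg.Agent.H755.S8.KL
import Cfsg.Agent.H92.KTools

/-!
# `k(Fi₂₄') ≤ 2 ^ 34` (helper217)

Elements of orders 29, 23, 17, 13, 11 and 7 with small centralizers.
-/

set_option autoImplicit false

namespace Cfsg.Agent.H217.S8.KFi24B

open Cfsg Subgroup Cfsg.Agent

universe v

theorem fin : Finite Spor.Fi24' := Nat.finite_of_card_ne_zero (by
  rw [Cfsg.Agent.R08.FiTwentyFour.card_commutator]; norm_num)

theorem card_X : Nat.card Spor.Fi24' = 1255205709190661721292800 := Cfsg.Agent.R08.FiTwentyFour.card_commutator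

theorem cent_of {p c : ℕ} (hp : p.Prime) (hd : p ∣ Nat.card Spor.Fi24')
    (hdat : ∀ R : Subgroup Spor.Fi24, Nat.card R = p → Nat.card (centralizer (R : Set Spor.Fi24)) ∣ c) (hc : 0 < c) :
    ∃ z : Spor.Fi24', orderOf z = p ∧ Nat.card (centralizer ({z} : Set Spor.Fi24')) ≤ c := by
  have := fin
  have hfin : Finite Spor.Fi24 := Cfsg.Agent.R08.FiTwentyFour.finite_Fi24
  have : Fact p.Prime := ⟨hp⟩
  obtain ⟨z, hz⟩ := exists_prime_orderOf_dvd_card' p hd
  refine ⟨z, hz, ?_⟩
  have hzo : orderOf (z : Spor.Fi24) = p := by rw [Subgroup.orderOf_coe]; exact hz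
  have h1 := hdat (zpowers (z : Spor.Fi24)) (by rw [Nat.card_zpowers]; exact hzo)
  refine le_trans ?_ (Nat.le_of_dvd hc h1)
  refine Nat.card_le_card_of_injective
    (fun g : ↥(centralizer ({z} : Set Spor.Fi24')) => (⟨((g : Spor.Fi24') : Spor.Fi24), by
      rw [mem_centralizer_iff]
      intro w hw
      obtain ⟨k, rfl⟩ := mem_zpowers_iff.1 hw
      have h2 := mem_centralizer_singleton_iff.1 g.2
      have h3 : Commute ((g : Spor.Fi24') : Spor.Fi24) (z : Spor.Fi24) := congrArg Subtype.val h2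
      exact (h3.zpow_right k).eq.symm⟩ :
        ↥(centralizer ((zpowers (z : Spor.Fi24) : Subgroup Spor.Fi24) : Set Spor.Fi24)))) ?_
  intro a b h
  have h1 : ((a : Spor.Fi24') : Spor.Fi24) = ((b : Spor.Fi24') : Spor.Fi24) := congrArg
    (fun w : ↥(centralizer ((zpowers (z : Spor.Fi24) : Subgroup Spor.Fi24) : Set Spor.Fi24)) => (w : Spor.Fi24)) h
  exact Subtype.ext (Subtype.ext h1)

/-- bounds of centralizer orders -/
def cb (p : ℕ) : ℕ := if p = 7 then 306936 else 5616

theorem card_classes : Nat.card (ConjClasses Spor.Fi24') ≤ 2 ^ 34 := by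
  have := fin
  have h := Cfsg.Agent.H755.S8.card_conj_le (T := Spor.Fi24') {7, 11, 13, 17, 23, 29} (by
      intro p hp
      simp only [Finset.mem_insert, Finset.mem_singleton] at hp
      rcases hp with rfl | rfl | rfl | rfl | rfl | rfl <;> norm_num) cb (by
      intro p hp
      simp only [Finset.mem_insert, Finset.mem_singleton] at hp
      rcases hp with rfl | rfl | rfl | rfl | rfl | rfl
      · exact ⟨_, Cfsg.Agent.H468.K6.Fi.cc_order, Cfsg.Agent.H713.HT.FiCx.le_cc⟩
      · obtain ⟨z, h1, h2⟩ := cent_of (p := 11) (c := 264) (by norm_num) (by rw [card_X]; norm_num)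
          (fun R hR => (H256.Sep.FiData.data11 hR).1) (by norm_num)
        exact ⟨z, h1, h2.trans (by unfold cb; norm_num)⟩
      · obtain ⟨z, h1, h2⟩ := cent_of (p := 13) (c := 5616) (by norm_num) (by rw [card_X]; norm_num)
          (fun R hR => (H256.Sep.FiData.data13 hR).1) (by norm_num)
        exact ⟨z, h1, h2.trans (by unfold cb; norm_num)⟩
      · obtain ⟨z, h1, h2⟩ := cent_of (p := 17) (c := 34) (by norm_num) (by rw [card_X]; norm_num)
          (fun R hR => (H256.Sep.FiData.data17 hR).1) (by norm_num)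
        exact ⟨z, h1, h2.trans (by unfold cb; norm_num)⟩
      · obtain ⟨z, h1, h2⟩ := cent_of (p := 23) (c := 46) (by norm_num) (by rw [card_X]; norm_num)
          (fun R hR => (H256.Sep.FiData.data23 hR).1) (by norm_num)
        exact ⟨z, h1, h2.trans (by unfold cb; norm_num)⟩
      · obtain ⟨z, h1, h2⟩ := cent_of (p := 29) (c := 29) (by norm_num) (by rw [card_X]; norm_num)
          (fun R hR => (H256.Sep.FiData.data29 hR).1) (by norm_num)
        exact ⟨z, h1, h2.trans (by unfold cb; norm_num)⟩)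
  rw [card_X] at h
  have e1 : (∏ p ∈ ({7, 11, 13, 17, 23, 29} : Finset ℕ), p) = 11350339 := by decide
  have e2 : (∑ p ∈ ({7, 11, 13, 17, 23, 29} : Finset ℕ), cb p) = 335016 := by decide
  rw [e1, e2] at h
  exact h.trans (by norm_num)

theorem KB {X : Type v} [Group X] [Finite X] (h : Spor.IsoFi24' X) : Nat.card (ConjClasses X) ≤ 2 ^ 34 := by
  obtain ⟨e⟩ := h
  rw [Cfsg.Agent.H92.KTools.card_classes_congr e]
  exact card_classes

end Cfsg.Agent.H217.S8.KFi24B
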